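import Mathlib.Algebra.Homology.HomotopyCategory
import Mathlib.Algebra.Homology.HomologicalComplexLimits
import Mathlib.CategoryTheory.Abelian.GrothendieckAxioms.Basic
import Mathlib.Algebra.Homology.ShortComplex.ExactFunctor
import Mathlib.CategoryTheory.Abelian.FunctorCategory

/-! # Coproducts in the homotopy category -/

universe w v u

open CategoryTheory CategoryTheory.Limits HomologicalComplex

namespace GrothLib.HoCat

variable {V : Type u} [Category.{v} V] {ι : Type*} {c : ComplexShape ι} {J : Type w}

section

variable [Preadditive V] [HasColimitsOfShape (Discrete J) V]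
variable {K : J → HomologicalComplex V c}

/-- The degreewise coproduct cofan of a coproduct of complexes. -/
noncomputable def evalIsColimit (K : J → HomologicalComplex V c) (i : ι) :
    IsColimit (Cofan.mk ((∐ K).X i) (fun j => (Sigma.ι K j).f i)) :=
  isColimitOfHasCoproductOfPreservesColimit (eval V c i) K

/-- A family of homotopies on the summands gives a homotopy on the coproduct. -/
noncomputable def homotopyOfSigma {L : HomologicalComplex V c} {φ ψ : (∐ K) ⟶ L}
    (h : ∀ j, Homotopy (Sigma.ι K j ≫ φ) (Sigma.ι K j ≫ ψ)) : Homotopy φ ψ where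
  hom i i' := Cofan.IsColimit.desc (evalIsColimit K i) fun j => (h j).hom i i'
  zero i i' hii' := Cofan.IsColimit.hom_ext (evalIsColimit K i) _ _ fun j => by
    rw [Cofan.IsColimit.fac, (h j).zero i i' hii', comp_zero]
  comm i := Cofan.IsColimit.hom_ext (evalIsColimit K i) _ _ fun j => by
    have := (h j).comm i
    simp only [HomologicalComplex.comp_f] at this
    simp only [cofan_mk_inj, Preadditive.comp_add]
    rw [this]
    let H : ∀ a b, (∐ K).X a ⟶ L.X b := fun a b =>
      Cofan.IsColimit.desc (evalIsColimit K a) fun j => (h j).hom a b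
    have hfac : ∀ a b, (Sigma.ι K j).f a ≫ H a b = (h j).hom a b := fun a b =>
      Cofan.IsColimit.fac (evalIsColimit K a) _ j
    congr 2
    · change (K j).d i (c.next i) ≫ (h j).hom (c.next i) i =
        (Sigma.ι K j).f i ≫ (∐ K).d i (c.next i) ≫ H (c.next i) i
      rw [Hom.comm_assoc, hfac]
    · change (h j).hom i (c.prev i) ≫ L.d (c.prev i) i =
        (Sigma.ι K j).f i ≫ H i (c.prev i) ≫ L.d (c.prev i) i
      rw [reassoc_of% hfac]

/-- The quotient functor preserves coproducts. -/
noncomputable def isColimitQuotientCofan (K : J → HomologicalComplex V c) :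
    IsColimit (Cofan.mk ((HomotopyCategory.quotient V c).obj (∐ K))
      (fun j => (HomotopyCategory.quotient V c).map (Sigma.ι K j))) :=
  Cofan.IsColimit.mk _
    (fun s => (HomotopyCategory.quotient V c).map
      (Sigma.desc fun j => ((HomotopyCategory.quotient V c).map_surjective (Y := s.pt.as)
        (s.inj j)).choose))
    (fun s j => by
      rw [cofan_mk_inj]
      erw [← Functor.map_comp]
      rw [Sigma.ι_desc]
      exact ((HomotopyCategory.quotient V c).map_surjective (Y := s.pt.as) (s.inj j)).choose_spec)
    (fun s m hm => by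
      obtain ⟨m', rfl⟩ := (HomotopyCategory.quotient V c).map_surjective (Y := s.pt.as) m
      refine HomotopyCategory.eq_of_homotopy _ _ (homotopyOfSigma fun j =>
        HomotopyCategory.homotopyOfEq _ _ ?_)
      rw [Functor.map_comp]
      refine (hm j).trans ?_
      rw [Sigma.ι_desc]
      exact ((HomotopyCategory.quotient V c).map_surjective (Y := s.pt.as) (s.inj j)).choose_spec.symm)

instance (K : J → HomologicalComplex V c) :
    PreservesColimit (Discrete.functor K) (HomotopyCategory.quotient V c) :=
  preservesColimit_of_preserves_colimit_cocone (coproductIsCoproduct K)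
    ((isColimitMapCoconeCofanMkEquiv _ _ _).symm (isColimitQuotientCofan K))

instance : PreservesColimitsOfShape (Discrete J) (HomotopyCategory.quotient V c) :=
  ⟨fun {K} => preservesColimit_of_iso_diagram _ (Discrete.natIsoFunctor (F := K)).symm⟩

instance : HasColimitsOfShape (Discrete J) (HomotopyCategory V c) where
  has_colimit F := by
    have : HasCoproduct (F.obj ∘ Discrete.mk) :=
      ⟨⟨⟨_, isColimitQuotientCofan (fun j => (F.obj ⟨j⟩).as)⟩⟩⟩
    exact hasColimit_of_iso (Discrete.natIsoFunctor (F := F))

instance [HasCoproducts.{w} V] : HasCoproducts.{w} (HomotopyCategory V c) := fun _ => inferInstance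

end

section

variable [Abelian V] [HasColimitsOfShape (Discrete J) V] [HasExactColimitsOfShape (Discrete J) V]

/-- Coproducts of acyclic complexes are acyclic when coproducts are exact. -/
theorem exactAt_sigma (K : J → HomologicalComplex V c) (n : ι) (hK : ∀ j, (K j).ExactAt n) :
    (∐ K).ExactAt n := by
  let F := Discrete.functor K
  let d : ∀ i i', F ⋙ eval V c i ⟶ F ⋙ eval V c i' := fun i i' =>
    Discrete.natTrans fun j => (F.obj j).d i i'
  let S : ShortComplex (Discrete J ⥤ V) := ShortComplex.mk (d (c.prev n) n) (d n (c.next n))
    (by ext j; exact (F.obj j).d_comp_d _ _ _)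
  have hS : S.Exact := by
    rw [ShortComplex.exact_iff_isZero_homology]
    refine Functor.isZero _ fun j => ?_
    exact IsZero.of_iso ((ShortComplex.exact_iff_isZero_homology _).1 (hK j.as))
      (S.mapHomologyIso ((evaluation _ _).obj j)).symm
  refine ShortComplex.exact_of_iso ?_ (hS.map (colim (J := Discrete J) (C := V)))
  refine ShortComplex.isoMk (preservesColimitIso (eval V c (c.prev n)) F).symm
    (preservesColimitIso (eval V c n) F).symm (preservesColimitIso (eval V c (c.next n)) F).symm
    ?_ ?_
  all_goals
    refine colimit.hom_ext fun j => ?_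
    simp only [Iso.symm_hom, ShortComplex.map_f, ShortComplex.map_g, S]
    erw [ι_preservesColimitIso_inv_assoc]
    erw [ι_colimMap_assoc]
    erw [ι_preservesColimitIso_inv]
    simp [d]
    exact (colimit.ι F j).comm _ _

end

end GrothLib.HoCat
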