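import Mathlib.Algebra.Homology.HomotopyCategory
import Mathlib.Algebra.Homology.HomologicalComplexLimits
import Groth.Agent.Lib.KInj.Derived
import Mathlib.CategoryTheory.Monad.Limits

/-! # Products in homotopy categories and derived categories -/

universe w w' v u

open CategoryTheory CategoryTheory.Limits HomologicalComplex

namespace GrothLib.HoCat

section

variable {V : Type u} [Category.{v} V] {ι : Type*} {c : ComplexShape ι} {J : Type w}
  [Preadditive V] [HasLimitsOfShape (Discrete J) V]

/-- The degreewise product fan of a product of complexes. -/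
noncomputable def evalIsLimit (K : J → HomologicalComplex V c) (i : ι) :
    IsLimit (Fan.mk ((∏ᶜ K).X i) (fun j => (Pi.π K j).f i)) :=
  isLimitOfHasProductOfPreservesLimit (eval V c i) K

/-- A family of homotopies on the factors gives a homotopy on the product. -/
noncomputable def homotopyOfPi {K : J → HomologicalComplex V c} {L : HomologicalComplex V c}
    {φ ψ : L ⟶ ∏ᶜ K} (h : ∀ j, Homotopy (φ ≫ Pi.π K j) (ψ ≫ Pi.π K j)) : Homotopy φ ψ where
  hom i i' := Fan.IsLimit.lift (evalIsLimit K i') fun j => (h j).hom i i'
  zero i i' hii' := Fan.IsLimit.hom_ext (evalIsLimit K i') _ _ fun j => by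
    rw [Fan.IsLimit.fac, (h j).zero i i' hii', zero_comp]
  comm i := Fan.IsLimit.hom_ext (evalIsLimit K i) _ _ fun j => by
    have := (h j).comm i
    simp only [HomologicalComplex.comp_f] at this
    simp only [fan_mk_proj, Preadditive.add_comp]
    rw [this]
    let H : ∀ a b, L.X a ⟶ (∏ᶜ K).X b := fun a b =>
      Fan.IsLimit.lift (evalIsLimit K b) fun j => (h j).hom a b
    have hfac : ∀ a b, H a b ≫ (Pi.π K j).f b = (h j).hom a b := fun a b =>
      Fan.IsLimit.fac (evalIsLimit K b) _ j
    congr 2
    · change L.d i (c.next i) ≫ (h j).hom (c.next i) i =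
        (L.d i (c.next i) ≫ H (c.next i) i) ≫ (Pi.π K j).f i
      rw [Category.assoc, hfac]
    · change (h j).hom i (c.prev i) ≫ (K j).d (c.prev i) i =
        (H i (c.prev i) ≫ (∏ᶜ K).d (c.prev i) i) ≫ (Pi.π K j).f i
      rw [Category.assoc, ← Hom.comm, reassoc_of% hfac]

/-- The quotient functor preserves products. -/
noncomputable def isLimitQuotientFan (K : J → HomologicalComplex V c) :
    IsLimit (Fan.mk ((HomotopyCategory.quotient V c).obj (∏ᶜ K))
      (fun j => (HomotopyCategory.quotient V c).map (Pi.π K j))) :=
  Fan.IsLimit.mk _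
    (fun s => (HomotopyCategory.quotient V c).map
      (Pi.lift fun j => ((HomotopyCategory.quotient V c).map_surjective (X := s.pt.as) (s.proj j)).choose))
    (fun s j => by
      rw [fan_mk_proj]
      erw [← Functor.map_comp]
      rw [Pi.lift_π]
      exact ((HomotopyCategory.quotient V c).map_surjective (X := s.pt.as) (s.proj j)).choose_spec)
    (fun s m hm => by
      obtain ⟨m', rfl⟩ := (HomotopyCategory.quotient V c).map_surjective (X := s.pt.as) m
      refine HomotopyCategory.eq_of_homotopy _ _ (homotopyOfPi fun j =>
        HomotopyCategory.homotopyOfEq _ _ ?_)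
      rw [Functor.map_comp]
      refine (hm j).trans ?_
      rw [Pi.lift_π]
      exact ((HomotopyCategory.quotient V c).map_surjective (X := s.pt.as) (s.proj j)).choose_spec.symm)

theorem homotopyCategory_hasLimitsOfShape :
    HasLimitsOfShape (Discrete J) (HomotopyCategory V c) where
  has_limit F := by
    have : HasProduct (F.obj ∘ Discrete.mk) :=
      ⟨⟨⟨_, isLimitQuotientFan (fun j => (F.obj ⟨j⟩).as)⟩⟩⟩
    exact hasLimit_of_iso (Discrete.natIsoFunctor (F := F)).symm

end

/-- A derived category with K-injective resolutions has products. -/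
theorem derivedCategory_hasLimitsOfShape {A : Type u} [Category.{v} A] [Abelian A]
    [IsGrothendieckAbelian.{v} A] [HasDerivedCategory.{w'} A] (J : Type w)
    [HasLimitsOfShape (Discrete J) A] : HasLimitsOfShape (Discrete J) (DerivedCategory A) := by
  have := homotopyCategory_hasLimitsOfShape (V := A) (c := ComplexShape.up ℤ) (J := J)
  let : Reflective (KInj.res A) := { L := DerivedCategory.Qh, adj := KInj.resAdj A }
  exact hasLimitsOfShape_of_reflective (KInj.res A)

end GrothLib.HoCat
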