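import Groth.Agent.Lib.HoCat.Coproduct
import Groth.Agent.Lib.TriCat.Coproduct
import Mathlib.Algebra.Homology.DerivedCategory.Basic
import Mathlib.CategoryTheory.Localization.CalculusOfFractions.Preadditive

/-! # Coproducts in derived categories of AB4 categories -/

universe w w' v u

open CategoryTheory CategoryTheory.Limits CategoryTheory.Pretriangulated HomotopyCategory

namespace GrothLib.HoCat

variable {C : Type u} [Category.{v} C] [Abelian C] {J : Type w}
  [HasColimitsOfShape (Discrete J) C] [HasExactColimitsOfShape (Discrete J) C]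

theorem subcategoryAcyclic_sigma (Z : J → HomotopyCategory C (ComplexShape.up ℤ))
    (hZ : ∀ j, subcategoryAcyclic C (Z j)) : subcategoryAcyclic C (∐ Z) := by
  let K : J → CochainComplex C ℤ := fun j => (Z j).as
  have h : subcategoryAcyclic C ((quotient C (ComplexShape.up ℤ)).obj (∐ K)) :=
    (quotient_obj_mem_subcategoryAcyclic_iff_exactAt _).2 fun n =>
      exactAt_sigma K n fun j => (quotient_obj_mem_subcategoryAcyclic_iff_exactAt (K j)).1 (hZ j) n
  exact (subcategoryAcyclic C).prop_of_iso
    (PreservesCoproduct.iso (quotient C (ComplexShape.up ℤ)) K) h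

theorem trW_sigma_map {X Y : J → HomotopyCategory C (ComplexShape.up ℤ)} (s : ∀ j, X j ⟶ Y j)
    (hs : ∀ j, (subcategoryAcyclic C).trW (s j)) :
    (subcategoryAcyclic C).trW (Limits.Sigma.map s) := by
  choose Z g h hT hZ using hs
  exact ObjectProperty.trW.mk _
    (TriCat.sigmaTriangle_distinguished (fun j => Triangle.mk (s j) (g j) (h j)) hT)
    (subcategoryAcyclic_sigma Z hZ)

variable [HasDerivedCategory.{w'} C]

/-- The localisation to the derived category preserves exact coproducts. -/
noncomputable def isColimitQhCofan (K : J → HomotopyCategory C (ComplexShape.up ℤ)) :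
    IsColimit (Cofan.mk (DerivedCategory.Qh.obj (∐ K))
      (fun j => DerivedCategory.Qh.map (Sigma.ι K j))) := by
  have hex : ∀ (Y : DerivedCategory C) (f : ∀ j, DerivedCategory.Qh.obj (K j) ⟶ Y),
      ∃ a : DerivedCategory.Qh.obj (∐ K) ⟶ Y,
        ∀ j, DerivedCategory.Qh.map (Sigma.ι K j) ≫ a = f j := by
    intro Y f
    have := Localization.essSurj (DerivedCategory.Qh (C := C)) (subcategoryAcyclic C).trW
    let e := DerivedCategory.Qh.objObjPreimageIso Y
    choose φ hφ using fun j => Localization.exists_rightFraction DerivedCategory.Qh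
      (subcategoryAcyclic C).trW (f j ≫ e.inv)
    let ψ : (subcategoryAcyclic C).trW.RightFraction (∐ K) (DerivedCategory.Qh.objPreimage Y) :=
      MorphismProperty.RightFraction.mk (Limits.Sigma.map fun j => (φ j).s)
        (trW_sigma_map _ fun j => (φ j).hs) (Sigma.desc fun j => (φ j).f)
    have hi := Localization.inverts (DerivedCategory.Qh (C := C)) (subcategoryAcyclic C).trW
    refine ⟨ψ.map _ hi ≫ e.hom, fun j => ?_⟩
    have : DerivedCategory.Qh.map (Sigma.ι K j) ≫ ψ.map _ hi = f j ≫ e.inv := by
      rw [hφ j]
      have := hi _ (φ j).hs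
      rw [← cancel_epi (DerivedCategory.Qh.map (φ j).s),
        MorphismProperty.RightFraction.map_s_comp_map, ← Category.assoc, ← Functor.map_comp,
        ← Sigma.ι_map (fun j => (φ j).s) j, Functor.map_comp, Category.assoc]
      erw [MorphismProperty.RightFraction.map_s_comp_map ψ]
      rw [← Functor.map_comp]
      congr 1
      exact Sigma.ι_desc _ _
    rw [← Category.assoc, this, Category.assoc, e.inv_hom_id, Category.comp_id]
  have huniq : ∀ (Y : DerivedCategory C) (a : DerivedCategory.Qh.obj (∐ K) ⟶ Y),
      (∀ j, DerivedCategory.Qh.map (Sigma.ι K j) ≫ a = 0) → a = 0 := by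
    intro Y a ha
    have := Localization.essSurj (DerivedCategory.Qh (C := C)) (subcategoryAcyclic C).trW
    let e := DerivedCategory.Qh.objObjPreimageIso Y
    obtain ⟨φ, hφ⟩ := Localization.exists_leftFraction DerivedCategory.Qh
      (subcategoryAcyclic C).trW (a ≫ e.inv)
    have hi := Localization.inverts (DerivedCategory.Qh (C := C)) (subcategoryAcyclic C).trW
    have hf : ∀ j, DerivedCategory.Qh.map (Sigma.ι K j ≫ φ.f) = DerivedCategory.Qh.map 0 := by
      intro j
      rw [Functor.map_comp, Functor.map_zero, ← φ.map_comp_map_s DerivedCategory.Qh hi, ← hφ,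
        Category.assoc, reassoc_of% (ha j), zero_comp]
    choose Z t ht hts using fun j =>
      (MorphismProperty.map_eq_iff_precomp DerivedCategory.Qh (subcategoryAcyclic C).trW _ _).1
        (hf j)
    have hz : Limits.Sigma.map t ≫ φ.f = 0 := by
      refine Sigma.hom_ext _ _ fun j => ?_
      rw [← Category.assoc, Sigma.ι_map, Category.assoc, hts j, comp_zero, comp_zero]
    have := hi _ (trW_sigma_map t ht)
    have h0 : DerivedCategory.Qh.map φ.f = 0 := by
      rw [← cancel_epi (DerivedCategory.Qh.map (Limits.Sigma.map t)), ← Functor.map_comp, hz,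
        Functor.map_zero, comp_zero]
    have := hi _ φ.hs
    have hE : a ≫ e.inv = 0 := by
      rw [← cancel_mono (DerivedCategory.Qh.map φ.s), hφ, φ.map_comp_map_s, h0, zero_comp]
    rw [← cancel_mono e.inv, hE, zero_comp]
  refine Cofan.IsColimit.mk _ (fun s => (hex s.pt s.inj).choose)
    (fun s j => (hex s.pt s.inj).choose_spec j) fun s m hm => ?_
  rw [← sub_eq_zero]
  exact huniq _ _ fun j => by
    rw [Preadditive.comp_sub, (hex s.pt s.inj).choose_spec j, sub_eq_zero]
    exact hm j

instance (K : J → HomotopyCategory C (ComplexShape.up ℤ)) :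
    PreservesColimit (Discrete.functor K) (DerivedCategory.Qh (C := C)) :=
  preservesColimit_of_preserves_colimit_cocone (coproductIsCoproduct K)
    ((isColimitMapCoconeCofanMkEquiv _ _ _).symm (isColimitQhCofan K))

instance : PreservesColimitsOfShape (Discrete J) (DerivedCategory.Qh (C := C)) :=
  ⟨fun {K} => preservesColimit_of_iso_diagram _ (Discrete.natIsoFunctor (F := K)).symm⟩

instance : PreservesColimitsOfShape (Discrete J) (DerivedCategory.Q (C := C)) :=
  preservesColimitsOfShape_of_natIso (DerivedCategory.quotientCompQhIso C)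

theorem derivedCategory_hasColimitsOfShape :
    HasColimitsOfShape (Discrete J) (DerivedCategory C) where
  has_colimit F := by
    have := Localization.essSurj (DerivedCategory.Qh (C := C)) (subcategoryAcyclic C).trW
    let K : J → HomotopyCategory C (ComplexShape.up ℤ) := fun j =>
      DerivedCategory.Qh.objPreimage (F.obj ⟨j⟩)
    have : HasCoproduct (fun j => DerivedCategory.Qh.obj (K j)) :=
      ⟨⟨⟨_, isColimitQhCofan K⟩⟩⟩
    exact hasColimit_of_iso (F := Discrete.functor fun j => DerivedCategory.Qh.obj (K j))
      (Discrete.natIso fun j => (DerivedCategory.Qh.objObjPreimageIso (F.obj j)).symm)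

end GrothLib.HoCat
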