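import Mathlib.Algebra.Homology.HomotopyCategory.KInjective
import Mathlib.Algebra.Homology.HomologicalComplexLimits
import Mathlib.CategoryTheory.Adjunction.Basic
import Mathlib.CategoryTheory.Limits.Preserves.Shapes.Products
import Mathlib.Algebra.Homology.ShortComplex.ExactFunctor

/-! # Stability properties of K-injective complexes -/

universe w v u v' u'

open CategoryTheory CategoryTheory.Limits HomologicalComplex

namespace GrothLib.HoCat

variable {A : Type u} [Category.{v} A] [Abelian A]

theorem isKInjective_pi {T : Type w} (I : T → CochainComplex A ℤ)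
    [HasProduct I] [∀ n, PreservesLimit (Discrete.functor I) (eval A (ComplexShape.up ℤ) n)]
    (h : ∀ t, (I t).IsKInjective) : (∏ᶜ I).IsKInjective where
  nonempty_homotopy_zero {K} f hK := by
    let hl : ∀ n, IsLimit (Fan.mk ((∏ᶜ I).X n) (fun t => (Pi.π I t).f n)) := fun n =>
      isLimitFanMkObjOfIsLimit (eval A (ComplexShape.up ℤ) n) _ _ (productIsProduct I)
    have H : ∀ t, Homotopy (f ≫ Pi.π I t) 0 := fun t => ((h t).nonempty_homotopy_zero _ hK).some
    exact ⟨
      { hom := fun i j => Fan.IsLimit.lift (hl j) fun t => (H t).hom i j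
        zero := fun i j hij => Fan.IsLimit.hom_ext (hl j) _ _ fun t => by
          rw [Fan.IsLimit.fac, (H t).zero i j hij, zero_comp]
        comm := fun i => Fan.IsLimit.hom_ext (hl i) _ _ fun t => by
          have e := (H t).comm i
          simp only [HomologicalComplex.comp_f] at e
          simp only [fan_mk_proj, Preadditive.add_comp, zero_f, zero_comp] at e ⊢
          rw [e]
          have hfac : ∀ a b, (Fan.IsLimit.lift (hl b) fun t => (H t).hom a b) ≫ (Pi.π I t).f b =
              (H t).hom a b := fun a b => Fan.IsLimit.fac (hl b) _ t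
          simp [dNext, prevD, hfac]
          rw [← Hom.comm, reassoc_of% hfac] }⟩

theorem isKInjective_map_of_rightAdjoint {B : Type u'} [Category.{v'} B] [Abelian B]
    (u : A ⥤ B) (w : B ⥤ A) (adj : w ⊣ u) [u.Additive] [w.Additive] [PreservesFiniteLimits w]
    [PreservesFiniteColimits w] (I : CochainComplex A ℤ) (h : I.IsKInjective) :
    CochainComplex.IsKInjective ((u.mapHomologicalComplex (ComplexShape.up ℤ)).obj I) where
  nonempty_homotopy_zero {K} f hK := by
    let η : K ⟶ (u.mapHomologicalComplex _).obj ((w.mapHomologicalComplex _).obj K) :=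
      { f := fun n => adj.unit.app (K.X n)
        comm' := fun i j _ => (adj.unit.naturality (K.d i j)).symm }
    let g : (w.mapHomologicalComplex _).obj K ⟶ I :=
      { f := fun n => (adj.homEquiv _ _).symm (f.f n)
        comm' := fun i j _ => by
          change (adj.homEquiv (K.X i) (I.X i)).symm (f.f i) ≫ I.d i j =
            w.map (K.d i j) ≫ (adj.homEquiv (K.X j) (I.X j)).symm (f.f j)
          erw [← adj.homEquiv_naturality_left_symm, ← f.comm]
          exact (adj.homEquiv_naturality_right_symm (f.f i) (I.d i j)).symm }
    have hf : η ≫ (u.mapHomologicalComplex _).map g = f := by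
      ext n
      change adj.unit.app (K.X n) ≫ u.map ((adj.homEquiv _ _).symm (f.f n)) = f.f n
      exact (adj.homEquiv_unit _ _ _).symm.trans ((adj.homEquiv (K.X n) (I.X n)).apply_symm_apply (f.f n))
    obtain ⟨H⟩ := h.nonempty_homotopy_zero g fun n => (hK n).map w
    exact ⟨(Homotopy.ofEq hf.symm).trans (((u.mapHomotopy H).compLeft η).trans
      (Homotopy.ofEq (by simp)))⟩

end GrothLib.HoCat
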