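import Groth.Agent.Lib.HoCat.ModuleCompact
import Mathlib.CategoryTheory.Abelian.GrothendieckCategory.ModuleEmbedding.GabrielPopescu
import Mathlib.CategoryTheory.Abelian.GrothendieckAxioms.Colim
import Mathlib.CategoryTheory.Adjunction.Additive
import Mathlib.CategoryTheory.Adjunction.FullyFaithful
import Mathlib.CategoryTheory.Triangulated.Opposite.Functor
import Mathlib.CategoryTheory.Limits.Preserves.Opposites

/-! # Brown representability for derived categories of Grothendieck abelian categories -/

universe v u u'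

open CategoryTheory CategoryTheory.Limits CategoryTheory.Pretriangulated HomotopyCategory Opposite
open CategoryTheory.Pretriangulated.Opposite

namespace GrothLib.HoCat

section Map

variable {C : Type u} [Category.{v} C] [Abelian C] {C' : Type u'} [Category.{v} C'] [Abelian C']
  (T : C ⥤ C') [T.Additive]

theorem exactAt_map [PreservesFiniteLimits T] [PreservesFiniteColimits T]
    {ι : Type*} {c : ComplexShape ι} (K : HomologicalComplex C c) (n : ι) (h : K.ExactAt n) :
    ((T.mapHomologicalComplex c).obj K).ExactAt n :=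
  ShortComplex.Exact.map h T

theorem isZero_Qh_obj [HasDerivedCategory C] (Z : HomotopyCategory C (ComplexShape.up ℤ))
    (hZ : subcategoryAcyclic C Z) : IsZero (DerivedCategory.Qh.obj Z) := by
  have hW := ObjectProperty.trW.mk (subcategoryAcyclic C) (contractible_distinguished₁ Z) hZ
  have := Localization.inverts (DerivedCategory.Qh (C := C)) (subcategoryAcyclic C).trW _ hW
  exact IsZero.of_iso (DerivedCategory.Qh.map_isZero (isZero_zero _)) (@asIso _ _ _ _ _ this).symm

variable {J : Type v} [HasColimitsOfShape (Discrete J) C] [PreservesColimitsOfShape (Discrete J) T]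
  [HasColimitsOfShape (Discrete J) C']

instance : PreservesColimitsOfShape (Discrete J) (T.mapHomotopyCategory (ComplexShape.up ℤ)) :=
  ⟨fun {F} => by
    have : PreservesColimitsOfShape (Discrete J) (T.mapHomologicalComplex (ComplexShape.up ℤ)) :=
      HomologicalComplex.preservesColimitsOfShape_of_eval _ fun i =>
        inferInstanceAs (PreservesColimitsOfShape (Discrete J)
          (HomologicalComplex.eval C (ComplexShape.up ℤ) i ⋙ T))
    let K : J → CochainComplex C ℤ := fun j => (F.obj ⟨j⟩).as
    have h₁ := isColimitCofanMkObjOfIsColimit (T.mapHomologicalComplex (ComplexShape.up ℤ)) K _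
      (coproductIsCoproduct K)
    have h₂ := isColimitCofanMkObjOfIsColimit (quotient C' (ComplexShape.up ℤ)) _ _ h₁
    have : PreservesColimit (Discrete.functor fun j => (quotient C (ComplexShape.up ℤ)).obj (K j))
        (T.mapHomotopyCategory (ComplexShape.up ℤ)) :=
      preservesColimit_of_preserves_colimit_cocone (isColimitQuotientCofan K)
        ((isColimitMapCoconeCofanMkEquiv _ _ _).symm h₂)
    exact preservesColimit_of_iso_diagram _
      (Discrete.natIso fun j => Iso.refl _ :
        Discrete.functor (fun j => (quotient C (ComplexShape.up ℤ)).obj (K j)) ≅ F)⟩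

end Map

variable {A : Type u} [Category.{v} A] [Abelian A] [IsGrothendieckAbelian.{v} A]
  [HasDerivedCategory.{v} A]

theorem isRepresentable_derived_of_adjunction {R : Type v} [Ring R] {T : ModuleCat.{v} R ⥤ A}
    {U : A ⥤ ModuleCat.{v} R} (adj : T ⊣ U) [U.Full] [U.Faithful] [U.Additive] [T.Additive]
    [PreservesFiniteLimits T] (H : (DerivedCategory A)ᵒᵖ ⥤ AddCommGrpCat.{v}) [H.IsHomological]
    [∀ (ι : Type v), PreservesLimitsOfShape (Discrete ι) H] :
    (H ⋙ forget AddCommGrpCat.{v}).IsRepresentable := by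
  have : PreservesColimitsOfSize.{v, v} T := adj.leftAdjoint_preservesColimits
  have : PreservesFiniteColimits T := inferInstance
  let F := T.mapHomotopyCategory (ComplexShape.up ℤ) ⋙ DerivedCategory.Qh (C := A)
  let E := freeFam R
  let H' := F.op ⋙ H
  have : ∀ (κ : Type v), PreservesLimitsOfShape (Discrete κ) F.op := fun κ => by
    have : PreservesColimitsOfShape (Discrete κ)ᵒᵖ F :=
      preservesColimitsOfShape_of_equiv (Discrete.opposite κ).symm F
    exact preservesLimitsOfShape_op _ F
  have := TriCat.hasColimitsOfShape_nat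
    (D := HomotopyCategory (ModuleCat.{v} R) (ComplexShape.up ℤ))
  have hperf : TriCat.IsPerfectFamily E := isPerfectFamily_freeFam
  have hs : TriCat.IsShiftClosedFamily E := isShiftClosed_freeFam
  have iso : ∀ {L L' : HomotopyCategory (ModuleCat.{v} R) (ComplexShape.up ℤ)}
      (x : H'.obj (op L)) (x' : H'.obj (op L')),
      (∀ k, Function.Bijective (fun a : E k ⟶ L => TriCat.res H' a x)) →
      (∀ k, Function.Bijective (fun a : E k ⟶ L' => TriCat.res H' a x')) →
      ∀ φ : L ⟶ L', TriCat.res H' φ x' = x → IsIso (F.map φ) := by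
    intro L L' x x' hx hx' φ hφ
    obtain ⟨Z, g, h, hT, h0⟩ := TriCat.exists_cone_of_bijective_on_family hs φ
      (fun k a ha => (hx k).1 (by
        change TriCat.res H' a x = TriCat.res H' 0 x
        rw [TriCat.res_zero, ← hφ, ← TriCat.res_comp, ha, TriCat.res_zero]))
      (fun k b => by
        obtain ⟨a, ha⟩ := (hx k).2 (TriCat.res H' b x')
        exact ⟨a, (hx' k).1 (by
          change TriCat.res H' (a ≫ φ) x' = _
          rw [TriCat.res_comp, hφ]; exact ha)⟩)
    have hZ := acyclic_of_freeFam Z h0
    have hTZ : subcategoryAcyclic A ((T.mapHomotopyCategory (ComplexShape.up ℤ)).obj Z) :=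
      (quotient_obj_mem_subcategoryAcyclic_iff_exactAt
        ((T.mapHomologicalComplex (ComplexShape.up ℤ)).obj Z.as)).2 fun n =>
        exactAt_map T Z.as n ((quotient_obj_mem_subcategoryAcyclic_iff_exactAt Z.as).1 hZ n)
    exact (Triangle.isZero₃_iff_isIso₁ _ (F.map_distinguished _ hT)).1 (isZero_Qh_obj _ hTZ)
  obtain ⟨Y, y₀, -, -, hY⟩ := TriCat.exists_extension (H := H') hs hperf
    (PEmpty.elim : PEmpty.{v + 1} → _) (fun j => j.elim)
  let y : H.obj (op (F.obj Y)) := y₀
  suffices hbij : ∀ X, Function.Bijective (fun a : X ⟶ F.obj Y => TriCat.res H a y) from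
    Functor.RepresentableBy.isRepresentable
      (⟨fun {X} => Equiv.ofBijective _ (hbij X), fun {X X'} a b => TriCat.res_comp H a b y⟩ :
        (H ⋙ forget AddCommGrpCat.{v}).RepresentableBy (F.obj Y))
  have := Localization.essSurj (DerivedCategory.Qh (C := A)) (subcategoryAcyclic A).trW
  have hε : ∀ Z, IsIso (adj.counit.app Z) := fun Z => inferInstance
  -- the counit is an isomorphism on complexes
  let εC : ∀ C₀ : CochainComplex A ℤ,
      (T.mapHomologicalComplex _).obj ((U.mapHomologicalComplex _).obj C₀) ≅ C₀ := fun C₀ =>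
    HomologicalComplex.Hom.isoOfComponents (fun n => @asIso _ _ _ _ (adj.counit.app (C₀.X n)) (hε _))
      (fun i j _ => (adj.counit.naturality (C₀.d i j)).symm)
  intro X
  refine ⟨fun a₁ a₂ ha => ?_, fun t => ?_⟩
  · obtain ⟨a, rfl⟩ : ∃ a, a₁ = a₂ + a := ⟨a₁ - a₂, by abel⟩
    replace ha : TriCat.res H a y = 0 := by simpa [TriCat.res_add] using ha
    suffices a = 0 by rw [this, add_zero]
    obtain ⟨C₁, g, h, hT⟩ := distinguished_cocone_triangle a
    obtain ⟨c, hc⟩ := TriCat.exists_res_eq_of_distTriang H _ hT y ha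
    change TriCat.res H g c = y at hc
    let e := DerivedCategory.Qh.objObjPreimageIso C₁
    obtain ⟨φ, hφ⟩ := Localization.exists_leftFraction DerivedCategory.Qh
      (subcategoryAcyclic A).trW (show DerivedCategory.Qh.obj _ ⟶ DerivedCategory.Qh.obj _ from
        g ≫ e.inv)
    have := Localization.inverts (DerivedCategory.Qh (C := A)) (subcategoryAcyclic A).trW _ φ.hs
    let C₂ : CochainComplex A ℤ := φ.Y'.as
    let ψ : C₁ ≅ DerivedCategory.Qh.obj φ.Y' := e.symm ≪≫ asIso (DerivedCategory.Qh.map φ.s)
    have hψ : g ≫ ψ.hom = DerivedCategory.Qh.map φ.f := by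
      have := φ.map_comp_map_s DerivedCategory.Qh (Localization.inverts _ _)
      rw [← hφ] at this
      simpa [ψ, F] using this
    obtain ⟨f₀, hf₀⟩ := (quotient A (ComplexShape.up ℤ)).map_surjective
      (X := (T.mapHomologicalComplex _).obj Y.as) (Y := C₂) φ.f
    let s₀ : Y.as ⟶ (U.mapHomologicalComplex _).obj C₂ :=
      { f := fun n => adj.unit.app (Y.as.X n) ≫ U.map (f₀.f n)
        comm' := fun i j _ => by
          change (adj.unit.app (Y.as.X i) ≫ U.map (f₀.f i)) ≫ U.map (C₂.d i j) =
            Y.as.d i j ≫ adj.unit.app (Y.as.X j) ≫ U.map (f₀.f j)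
          rw [Category.assoc, ← Functor.map_comp]
          erw [f₀.comm]
          erw [Functor.map_comp]
          rw [← Category.assoc, ← Category.assoc]
          congr 1
          exact (adj.unit.naturality (Y.as.d i j)).symm }
    have hs₀ : (T.mapHomologicalComplex _).map s₀ ≫ (εC C₂).hom = f₀ := by
      ext n
      simp [s₀, εC]
      erw [Category.assoc, adj.counit.naturality, adj.left_triangle_components_assoc]
      rfl
    let M : HomotopyCategory (ModuleCat.{v} R) (ComplexShape.up ℤ) :=
      (quotient _ _).obj ((U.mapHomologicalComplex _).obj C₂)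
    let s : Y ⟶ M := (quotient _ _).map (X := Y.as) s₀
    let ε : F.obj M ≅ DerivedCategory.Qh.obj φ.Y' :=
      DerivedCategory.Qh.mapIso ((quotient A (ComplexShape.up ℤ)).mapIso (εC C₂))
    have hsε : F.map s ≫ ε.hom = g ≫ ψ.hom := by
      rw [hψ, ← hf₀, ← hs₀, Functor.map_comp]
      erw [Functor.map_comp]
      rfl
    let cM : H'.obj (op M) := TriCat.res H (ε.hom ≫ ψ.inv) c
    have hcM : TriCat.res H' s cM = y₀ := by
      change TriCat.res H (F.map s) (TriCat.res H (ε.hom ≫ ψ.inv) c) = y
      rw [← TriCat.res_comp, ← Category.assoc, hsε, Category.assoc, ψ.hom_inv_id, Category.comp_id,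
        hc]
    obtain ⟨L', x', j, hj, hL'⟩ := TriCat.exists_extension (H := H') hs hperf
      (fun _ : PUnit.{v + 1} => M) (fun _ => cM)
    have := iso y₀ x' hY hL' (s ≫ j ⟨⟩) (by rw [TriCat.res_comp, hj, hcM])
    have hag : a ≫ g = 0 := comp_distTriang_mor_zero₁₂ _ hT
    have has : a ≫ F.map s = 0 := by
      rw [← cancel_mono ε.hom, Category.assoc, hsε, reassoc_of% hag, zero_comp, zero_comp]
    rw [← cancel_mono (F.map (s ≫ j ⟨⟩)), Functor.map_comp, reassoc_of% has, zero_comp, zero_comp]
  · let e := DerivedCategory.Qh.objObjPreimageIso X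
    let C₀ : CochainComplex A ℤ := (DerivedCategory.Qh.objPreimage X).as
    let M : HomotopyCategory (ModuleCat.{v} R) (ComplexShape.up ℤ) :=
      (quotient _ _).obj ((U.mapHomologicalComplex _).obj C₀)
    let ε : F.obj M ≅ X :=
      DerivedCategory.Qh.mapIso ((quotient A (ComplexShape.up ℤ)).mapIso (εC C₀)) ≪≫ e
    let t' : H'.obj (op M) := TriCat.res H ε.hom t
    obtain ⟨L', x', j, hj, hL'⟩ := TriCat.exists_extension (H := H') hs hperf
      (fun b : ULift.{v} Bool => cond b.down Y M)
      (fun b => match b with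
        | ⟨true⟩ => y₀
        | ⟨false⟩ => t')
    have := iso y₀ x' hY hL' (j ⟨true⟩) (hj ⟨true⟩)
    refine ⟨ε.inv ≫ F.map (j ⟨false⟩) ≫ inv (F.map (j ⟨true⟩)), ?_⟩
    have e₁ : TriCat.res H (F.map (j ⟨true⟩)) x' = y := hj ⟨true⟩
    have e₂ : TriCat.res H (F.map (j ⟨false⟩)) x' = TriCat.res H ε.hom t := hj ⟨false⟩
    change TriCat.res H _ y = t
    rw [← e₁, ← TriCat.res_comp, Category.assoc, Category.assoc, IsIso.inv_hom_id,
      Category.comp_id, TriCat.res_comp, e₂, ← TriCat.res_comp, ε.inv_hom_id, TriCat.res_id]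

/-- **Brown representability** in the derived category of a Grothendieck abelian category. -/
theorem isRepresentable_derived (H : (DerivedCategory A)ᵒᵖ ⥤ AddCommGrpCat.{v}) [H.IsHomological]
    [∀ (ι : Type v), PreservesLimitsOfShape (Discrete ι) H] :
    (H ⋙ forget AddCommGrpCat.{v}).IsRepresentable := by
  obtain ⟨G, hG⟩ := HasSeparator.hasSeparator (C := A)
  have := IsGrothendieckAbelian.GabrielPopescu.full G hG
  have := (isSeparator_iff_faithful_preadditiveCoyonedaObj G).1 hG
  have := (IsGrothendieckAbelian.tensorObjPreadditiveCoyonedaObjAdjunction G).left_adjoint_additive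
  have := IsGrothendieckAbelian.GabrielPopescu.preservesFiniteLimits G hG
  exact isRepresentable_derived_of_adjunction
    (IsGrothendieckAbelian.tensorObjPreadditiveCoyonedaObjAdjunction G) H

/-- A coproduct preserving triangulated functor out of the derived category of a Grothendieck
abelian category is a left adjoint. -/
theorem isLeftAdjoint_derived {D : Type u'} [Category.{v} D] [Preadditive D] [HasZeroObject D]
    [HasShift D ℤ] [∀ n : ℤ, (shiftFunctor D n).Additive] [Pretriangulated D]
    (F : DerivedCategory A ⥤ D) [F.CommShift ℤ] [F.IsTriangulated]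
    [∀ (ι : Type v), PreservesColimitsOfShape (Discrete ι) F] : F.IsLeftAdjoint := by
  refine F.isLeftAdjoint_of_rightAdjointObjIsDefined_eq_top (funext fun Y => ?_)
  simp only [Pi.top_apply, Prop.top_eq_true, eq_iff_iff, iff_true]
  rw [F.rightAdjointObjIsDefined_iff]
  have : ∀ (κ : Type v), PreservesLimitsOfShape (Discrete κ) F.op := fun κ => by
    have : PreservesColimitsOfShape (Discrete κ)ᵒᵖ F :=
      preservesColimitsOfShape_of_equiv (Discrete.opposite κ).symm F
    exact preservesLimitsOfShape_op _ F
  exact isRepresentable_derived (F.op ⋙ preadditiveYoneda.obj Y)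

end GrothLib.HoCat
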