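import Groth.Agent.Lib.HoCat.DerivedCoproduct
import Groth.Agent.Lib.TriCat.BrownCorollaries
import Mathlib.Algebra.Homology.HomotopyCategory.SingleFunctors
import Mathlib.Algebra.Category.ModuleCat.Colimits
import Mathlib.Algebra.Homology.ShortComplex.ModuleCat

/-! # The free module of rank one in the homotopy category of complexes of modules -/

universe v

open CategoryTheory CategoryTheory.Limits CategoryTheory.Pretriangulated HomotopyCategory

namespace GrothLib.HoCat

variable (R : Type v) [Ring R]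

/-- The shifts of the free module of rank one, indexed in `Type v`. -/
noncomputable def freeFam (n : ULift.{v} ℤ) :
    HomotopyCategory (ModuleCat.{v} R) (ComplexShape.up ℤ) :=
  (quotient _ _).obj ((HomologicalComplex.single _ _ n.down).obj (ModuleCat.of R R))

variable {R}

theorem freeFam_hasFiniteSupport (n : ULift.{v} ℤ) :
    TriCat.HasFiniteSupport (freeFam R n) := by
  classical
  obtain ⟨n⟩ := n
  intro J X b
  obtain ⟨K, rfl⟩ : ∃ K : J → CochainComplex (ModuleCat.{v} R) ℤ,
      X = fun j => (quotient _ _).obj (K j) := ⟨fun j => (X j).as, rfl⟩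
  let e := PreservesCoproduct.iso (quotient (ModuleCat.{v} R) (ComplexShape.up ℤ)) K
  obtain ⟨β, hβ⟩ := (quotient (ModuleCat.{v} R) (ComplexShape.up ℤ)).map_surjective
    (X := (HomologicalComplex.single _ _ n).obj (ModuleCat.of R R)) (Y := ∐ K) (b ≫ e.inv)
  let p : Finset J → ((∐ K) ⟶ ∐ K) := fun s =>
    Sigma.desc fun j => if j ∈ s then Sigma.ι K j else 0
  have hp : ∀ (j : J) (s : Finset J), j ∈ s →
      (Sigma.ι K j).f n ≫ (p s).f n = (Sigma.ι K j).f n := fun j s hj => by
    rw [← HomologicalComplex.comp_f]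
    simp [p, hj]
  have hmono : ∀ (s t : Finset J), s ⊆ t → p s ≫ p t = p s := fun s t hst =>
    Sigma.hom_ext _ _ fun j => by
      by_cases hj : j ∈ s
      · simp [p, hj, hst hj]
      · simp [p, hj]
  let M : Submodule R ((∐ K).X n) :=
    { carrier := {x | ∃ s, (p s).f n x = x}
      zero_mem' := ⟨∅, by simp⟩
      add_mem' := by
        rintro x y ⟨s, hs⟩ ⟨t, ht⟩
        refine ⟨s ∪ t, ?_⟩
        have e1 := congrArg (fun φ => φ.f n x) (hmono s (s ∪ t) Finset.subset_union_left)
        have e2 := congrArg (fun φ => φ.f n y) (hmono t (s ∪ t) Finset.subset_union_right)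
        simp only [HomologicalComplex.comp_f, ModuleCat.comp_apply, hs, ht] at e1 e2
        rw [map_add, e1, e2]
      smul_mem' := by
        rintro c x ⟨s, hs⟩
        exact ⟨s, by rw [map_smul, hs]⟩ }
  have hM : ∀ x, x ∈ M := by
    intro x
    have h0 : ModuleCat.ofHom M.mkQ = 0 := by
      refine Cofan.IsColimit.hom_ext (evalIsColimit K n) _ _ fun j => ?_
      rw [comp_zero]
      ext y
      exact (Submodule.Quotient.mk_eq_zero M).2 ⟨{j},
        congrArg (fun φ => φ y) (hp j {j} (Finset.mem_singleton_self j))⟩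
    exact (Submodule.Quotient.mk_eq_zero M).1 (congrArg (fun φ => φ x) h0)
  obtain ⟨s, hs⟩ := hM (β.f n ((HomologicalComplex.singleObjXSelf (ComplexShape.up ℤ) n (ModuleCat.of R R)).inv (1 : R)))
  refine ⟨s, ?_⟩
  have h1 : β ≫ p s = β := by
    refine HomologicalComplex.from_single_hom_ext ?_
    rw [← cancel_epi (HomologicalComplex.singleObjXSelf (ComplexShape.up ℤ) n (ModuleCat.of R R)).inv]
    refine ModuleCat.hom_ext (LinearMap.ext_ring ?_)
    exact hs
  have h2 : e.hom ≫ TriCat.supp (fun j => (quotient _ _).obj (K j)) s = (quotient _ _).map (p s) ≫ e.hom := by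
    rw [← cancel_epi e.inv, Iso.inv_hom_id_assoc]
    refine Sigma.hom_ext _ _ fun j => ?_
    have hι : Sigma.ι (fun j => (quotient _ _).obj (K j)) j ≫ e.inv =
        (quotient (ModuleCat.{v} R) (ComplexShape.up ℤ)).map (Sigma.ι K j) := by
      simp only [e, PreservesCoproduct.inv_hom]
      exact ι_comp_sigmaComparison (quotient (ModuleCat.{v} R) (ComplexShape.up ℤ)) K j
    rw [TriCat.ι_supp, reassoc_of% hι, ← Functor.map_comp_assoc, Sigma.ι_desc]
    split_ifs with h
    · rw [← hι, Category.assoc, Iso.inv_hom_id, Category.comp_id]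
    · simp
  have hb : b = (quotient _ _).map β ≫ e.hom := by rw [hβ]; simp
  rw [hb]
  erw [Category.assoc, h2]
  erw [← Functor.map_comp_assoc, h1]

theorem isShiftClosed_freeFam : TriCat.IsShiftClosedFamily (freeFam R) := fun k m =>
  ⟨⟨k.down - m⟩, ⟨((HomotopyCategory.singleFunctors (ModuleCat.{v} R)).shiftIso m (k.down - m)
    k.down (by omega)).app (ModuleCat.of R R)⟩⟩

theorem isPerfectFamily_freeFam
    [HasColimitsOfShape (Discrete ℕ) (HomotopyCategory (ModuleCat.{v} R) (ComplexShape.up ℤ))] :
    TriCat.IsPerfectFamily (freeFam R) :=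
  TriCat.isPerfectFamily_of_hasFiniteSupport _ freeFam_hasFiniteSupport

/-- Complexes receiving only null homotopic maps from all shifts of `R` are acyclic. -/
theorem acyclic_of_freeFam (X : HomotopyCategory (ModuleCat.{v} R) (ComplexShape.up ℤ))
    (h : ∀ k (f : freeFam R k ⟶ X), f = 0) : subcategoryAcyclic _ X := by
  refine (quotient_obj_mem_subcategoryAcyclic_iff_exactAt X.as).2 fun n => ?_
  rw [HomologicalComplex.exactAt_iff' _ (n - 1) n (n + 1) (by simp) (by simp),
    ShortComplex.moduleCat_exact_iff]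
  intro x hx
  let x' : ModuleCat.of R R ⟶ X.as.X n := ModuleCat.ofHom (LinearMap.toSpanSingleton R _ x)
  have hx' : ∀ k, (ComplexShape.up ℤ).Rel n k → x' ≫ X.as.d n k = 0 := by
    intro k hk
    obtain rfl : n + 1 = k := hk
    refine ModuleCat.hom_ext (LinearMap.ext_ring ?_)
    simp [x']
    exact hx
  obtain ⟨H⟩ := (quotient_map_eq_zero_iff _).1
    (h ⟨n⟩ ((quotient _ _).map (HomologicalComplex.mkHomFromSingle x' hx')))
  have hc := H.comm n
  rw [dNext_eq _ (show (ComplexShape.up ℤ).Rel n (n + 1) by simp),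
    prevD_eq _ (show (ComplexShape.up ℤ).Rel (n - 1) n by simp)] at hc
  refine ⟨H.hom n (n - 1) ((HomologicalComplex.singleObjXSelf (ComplexShape.up ℤ) n (ModuleCat.of R R)).inv (1 : R)), ?_⟩
  have := congrArg (fun φ => φ ((HomologicalComplex.singleObjXSelf (ComplexShape.up ℤ) n (ModuleCat.of R R)).inv (1 : R))) hc
  simp [HomologicalComplex.mkHomFromSingle, x'] at this
  refine this.symm.trans ?_
  erw [Iso.inv_hom_id_apply]
  exact one_smul R x

end GrothLib.HoCat
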