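import Groth.Agent.Lib.TriCat.Generation
import Groth.Agent.Lib.HoCat.ModuleCompact
import Groth.Agent.Lib.HoCat.DerBrown
import Mathlib.Algebra.Category.ModuleCat.AB

/-! # `D(A)` is the localizing subcategory generated by `A` -/

universe v

open CategoryTheory CategoryTheory.Limits CategoryTheory.Pretriangulated HomotopyCategory

attribute [local instance] HasDerivedCategory.standard

namespace GrothLib.HoCat

variable {R : Type v} [Ring R]

/-- A class of objects of `D(R)` closed under sums and cones and containing all shifts of `R` is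
everything. -/
theorem prop_derived_of_free (P : DerivedCategory (ModuleCat.{v} R) → Prop)
    (hiso : ∀ {A B : DerivedCategory (ModuleCat.{v} R)}, (A ≅ B) → P A → P B)
    (hfree : ∀ n : ℤ, P (DerivedCategory.Q.obj ((HomologicalComplex.single _ (ComplexShape.up ℤ) n).obj (ModuleCat.of R R))))
    (hsum : ∀ (J : Type v) (Z : J → DerivedCategory (ModuleCat.{v} R)) [HasCoproduct Z], (∀ j, P (Z j)) → P (∐ Z))
    (hcone : ∀ T ∈ distTriang (DerivedCategory (ModuleCat.{v} R)), P T.obj₁ → P T.obj₂ → P T.obj₃)
    (M : DerivedCategory (ModuleCat.{v} R)) : P M := by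
  let Qh' := DerivedCategory.Qh (C := ModuleCat.{v} R)
  have := Localization.essSurj Qh' (subcategoryAcyclic (ModuleCat.{v} R)).trW
  let X := Qh'.objPreimage M
  have := TriCat.hasColimitsOfShape_nat (D := HomotopyCategory (ModuleCat.{v} R) (ComplexShape.up ℤ))
  obtain ⟨L, φ, hL, hbij⟩ := TriCat.exists_approximation_bijective (isShiftClosed_freeFam (R := R))
    isPerfectFamily_freeFam (fun Z => P (Qh'.obj Z)) (fun e h => hiso (Qh'.mapIso e) h)
    (fun k => hiso ((DerivedCategory.quotientCompQhIso _).app _).symm (hfree k.down))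
    (fun J Z h => by
      have : HasExactColimitsOfShape (Discrete J) (ModuleCat.{v} R) := AB4OfSize.ofShape _
      have : HasCoproduct fun j => Qh'.obj (Z j) :=
        have := derivedCategory_hasColimitsOfShape (C := ModuleCat.{v} R) (J := J)
        inferInstance
      exact hiso (PreservesCoproduct.iso Qh' Z).symm (hsum J _ h))
    (fun T hT h₁ h₂ => hcone _ (Qh'.map_distinguished T hT) h₁ h₂) X
  obtain ⟨C, g, h, hT, h0⟩ := TriCat.exists_cone_of_bijective_on_family (isShiftClosed_freeFam (R := R)) φ
    (fun k a ha => (hbij k).1 (ha.trans zero_comp.symm)) fun k b => (hbij k).2 b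
  have hz : IsZero (Qh'.obj C) := isZero_Qh_obj C (acyclic_of_freeFam C h0)
  have : IsIso (Qh'.map φ) :=
    (Triangle.isZero₃_iff_isIso₁ _ (Qh'.map_distinguished _ hT)).1 hz
  exact hiso (asIso (Qh'.map φ) ≪≫ Qh'.objObjPreimageIso M) hL

end GrothLib.HoCat
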