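import Mathlib.Algebra.Homology.Double
import Mathlib.Algebra.Homology.HomotopyCategory
import Mathlib.CategoryTheory.Limits.Preserves.Shapes.Products

/-! # Evaluation preserves all coproducts of cochain complexes which exist -/

universe w v u

open CategoryTheory CategoryTheory.Limits HomologicalComplex

namespace GrothLib.HoCat

variable {A : Type u} [Category.{v} A] [HasZeroMorphisms A] [HasZeroObject A]

/-- The disk complex on `Y` in degrees `n - 1` and `n`. -/
noncomputable abbrev disk (Y : A) (n : ℤ) : CochainComplex A ℤ :=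
  double (𝟙 Y) (show (ComplexShape.up ℤ).Rel (n - 1) n by simp)

theorem exists_hom_to_disk {K : CochainComplex A ℤ} {Y : A} {n : ℤ} (φ : K.X n ⟶ Y) :
    ∃ g : K ⟶ disk Y n, g.f n ≫ (doubleXIso₁ (𝟙 Y)
      (show (ComplexShape.up ℤ).Rel (n - 1) n by simp) (by omega)).hom = φ := by
  let hr : (ComplexShape.up ℤ).Rel (n - 1) n := by simp
  have hne : n - 1 ≠ n := by omega
  let f : ∀ k, K.X k ⟶ (disk Y n).X k := fun k =>
    if h : k = n then (K.XIsoOfEq h).hom ≫ φ ≫ (doubleXIso₁ (𝟙 Y) hr hne).inv ≫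
      ((disk Y n).XIsoOfEq h).inv
    else if h' : k = n - 1 then (K.XIsoOfEq h').hom ≫ K.d (n - 1) n ≫ φ ≫
      (doubleXIso₀ (𝟙 Y) hr).inv ≫ ((disk Y n).XIsoOfEq h').inv
    else 0
  refine ⟨{ f := f, comm' := ?_ }, by simp [f]⟩
  intro a b hab
  obtain rfl : a + 1 = b := hab
  by_cases hb : a + 1 = n
  · subst hb
    obtain h' : a = a + 1 - 1 := by omega
    simp only [f, dif_neg (show a ≠ a + 1 by omega), dif_pos h', ↓reduceDIte]
    have : ∀ (m : ℤ) (e : a = m) (hm : (ComplexShape.up ℤ).Rel m (a + 1)) (hne' : m ≠ a + 1),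
        ((K.XIsoOfEq e).hom ≫ K.d m (a + 1) ≫ φ ≫ (doubleXIso₀ (𝟙 Y) hm).inv ≫
          ((double (𝟙 Y) hm).XIsoOfEq e).inv) ≫ (double (𝟙 Y) hm).d a (a + 1) =
          K.d a (a + 1) ≫ φ ≫ (doubleXIso₁ (𝟙 Y) hm hne').inv := by
      intro m e hm hne'
      subst e
      simp [double_d _ hm hne']
    refine (this (a + 1 - 1) h' (by simp) (by omega)).trans ?_
    simp
  · rw [double_d_eq_zero₁ _ _ _ _ hb, comp_zero]
    by_cases hb' : a + 1 = n - 1
    · have hz : ∀ (m : ℤ) (e : a + 1 = m) {Z : A} (r : K.X n ⟶ Z),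
          K.d a (a + 1) ≫ (K.XIsoOfEq e).hom ≫ K.d m n ≫ r = 0 := by
        intro m e Z r
        subst e
        simp
      simp only [f, dif_neg hb, dif_pos hb']
      exact (hz _ hb' _).symm
    · exact ((isZero_double_X _ _ _ hb' hb).eq_of_tgt _ _)

theorem disk_hom_ext {K : CochainComplex A ℤ} {Y : A} {n : ℤ} {g g' : K ⟶ disk Y n}
    (h : g.f n = g'.f n) : g = g' := by
  refine to_double_hom_ext ?_ h
  have : IsIso ((disk Y n).d (n - 1) n) := by
    rw [double_d _ _ (show n - 1 ≠ n by omega)]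
    infer_instance
  rw [← cancel_mono ((disk Y n).d (n - 1) n), g.comm, g'.comm, h]

instance preservesCoproduct_eval {T : Type w} (L : T → CochainComplex A ℤ) [HasCoproduct L]
    (n : ℤ) : PreservesColimit (Discrete.functor L) (eval A (ComplexShape.up ℤ) n) :=
  preservesColimit_of_preserves_colimit_cocone (coproductIsCoproduct L)
    ((isColimitMapCoconeCofanMkEquiv _ _ _).symm (Cofan.IsColimit.mk _
      (fun s => (Sigma.desc fun t => (exists_hom_to_disk (s.inj t)).choose).f n ≫
        (doubleXIso₁ (𝟙 s.pt) (show (ComplexShape.up ℤ).Rel (n - 1) n by simp) (by omega)).hom)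
      (fun s t => by
        have := (exists_hom_to_disk (s.inj t)).choose_spec
        simp only [cofan_mk_inj, eval_map]
        erw [← Category.assoc, ← HomologicalComplex.comp_f, Sigma.ι_desc]
        exact this)
      (fun s m hm => by
        obtain ⟨g, hg⟩ := exists_hom_to_disk (K := ∐ L) (n := n) m
        rw [← hg]
        congr 2
        refine Sigma.hom_ext _ _ fun t => disk_hom_ext ?_
        rw [Sigma.ι_desc, comp_f, ← cancel_mono (doubleXIso₁ (𝟙 s.pt)
          (show (ComplexShape.up ℤ).Rel (n - 1) n by simp) (by omega)).hom, Category.assoc, hg,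
          (exists_hom_to_disk (s.inj t)).choose_spec]
        exact hm t)))

end GrothLib.HoCat
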